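import Groth.Agent.VecBal.K678.EffA
import Groth.Agent.Desc.K389.FamEff

/-!
# Descent data of properly balanced families are effective (node J8)
-/

set_option autoImplicit false
set_option backward.isDefEq.respectTransparency false
set_option backward.isDefEq.respectTransparency.types false
universe w u
open CategoryTheory CategoryTheory.Limits AlgebraicGeometry Opposite
open _root_.Desc Groth.Agent.Picfga.OverRep Groth.Agent.Desc.SecFunctor
  Groth.Agent.Desc.SecPresheaf Groth.Agent.Desc.SecDescent Groth.Agent.Desc.ZarGlue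
open Groth.Agent.VecBal.K812.Iface K389.Fam

namespace Groth.Agent.VecBal.K678.Eff

/-- The transport of a cartesian square is cartesian. -/
theorem isPullback_transport {X S : Scheme.{u}} {p : X ⟶ S} (D : SchDD p) {Z T : Scheme.{u}} (x₀ x₁ : Z ⟶ X)
    (h : x₀ ≫ p = x₁ ≫ p) (t : T ⟶ Z) (v : T ⟶ D.obj.left) (sq : IsPullback v t D.obj.hom x₀) :
    IsPullback (D.φ (t ≫ x₀) (t ≫ x₁) (by rw [Category.assoc, Category.assoc, h]) ⟨v, sq.w⟩).1 t D.obj.hom x₁ := by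
  have e0 : ∀ {R : Scheme.{u}} (b : R ⟶ Z), (b ≫ x₀) ≫ p = (b ≫ x₁) ≫ p := fun b => by
    rw [Category.assoc, Category.assoc, h]
  -- naturality
  have nat : ∀ {R : Scheme.{u}} (m : R ⟶ T) (h1 : (m ≫ v) ≫ D.obj.hom = (m ≫ t) ≫ x₀),
      (D.φ ((m ≫ t) ≫ x₀) ((m ≫ t) ≫ x₁) (e0 _) ⟨m ≫ v, h1⟩).1 =
        m ≫ (D.φ (t ≫ x₀) (t ≫ x₁) (e0 t) ⟨v, sq.w⟩).1 := by
    intro R m h1
    have h2 : ((m ≫ t) ≫ x₀) = m ≫ t ≫ x₀ := Category.assoc _ _ _
    have h3 : ((m ≫ t) ≫ x₁) = m ≫ t ≫ x₁ := Category.assoc _ _ _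
    have key : ∀ (y₀ y₁ : R ⟶ X) (hy₀ : y₀ = m ≫ t ≫ x₀) (hy₁ : y₁ = m ≫ t ≫ x₁) (hy : y₀ ≫ p = y₁ ≫ p)
        (h1 : (m ≫ v) ≫ D.obj.hom = y₀), (D.φ y₀ y₁ hy ⟨m ≫ v, h1⟩).1 =
          m ≫ (D.φ (t ≫ x₀) (t ≫ x₁) (e0 t) ⟨v, sq.w⟩).1 := by
      intro y₀ y₁ hy₀ hy₁ hy h1
      subst hy₀ hy₁
      exact D.φ_natural m (t ≫ x₀) (t ≫ x₁) (e0 t) hy ⟨v, sq.w⟩ ⟨m ≫ v, h1⟩ rfl
    exact key _ _ h2 h3 _ _
  have main : ∀ {R : Scheme.{u}} (a : R ⟶ D.obj.left) (b : R ⟶ Z) (hab : a ≫ D.obj.hom = b ≫ x₁),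
      ∃! m : R ⟶ T, m ≫ (D.φ (t ≫ x₀) (t ≫ x₁) (e0 t) ⟨v, sq.w⟩).1 = a ∧ m ≫ t = b := by
    intro R a b hab
    let a' := D.φ (b ≫ x₁) (b ≫ x₀) (e0 b).symm ⟨a, hab⟩
    have ha' : D.φ (b ≫ x₀) (b ≫ x₁) (e0 b) a' = ⟨a, hab⟩ := by
      rw [D.φ_comp, D.φ_self]
    refine ⟨sq.lift a'.1 b a'.2, ⟨?_, sq.lift_snd _ _ _⟩, ?_⟩
    · have h4 : (sq.lift a'.1 b a'.2 ≫ v) ≫ D.obj.hom = (sq.lift a'.1 b a'.2 ≫ t) ≫ x₀ := by
        rw [Category.assoc, sq.w, Category.assoc]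
      rw [← nat _ h4]
      have key : ∀ (b' : R ⟶ Z) (c : R ⟶ D.obj.left) (hb : b' = b) (hc : c = a'.1) (h5 : c ≫ D.obj.hom = b' ≫ x₀),
          (D.φ (b' ≫ x₀) (b' ≫ x₁) (e0 b') ⟨c, h5⟩).1 = a := by
        intro b' c hb hc h5
        subst hb hc
        exact congrArg Subtype.val ha'
      exact key _ _ (sq.lift_snd _ _ _) (sq.lift_fst _ _ _) _
    · rintro m ⟨h5, h6⟩
      apply sq.hom_ext
      · rw [sq.lift_fst]
        have h4 : (m ≫ v) ≫ D.obj.hom = (m ≫ t) ≫ x₀ := by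
          rw [Category.assoc, sq.w, Category.assoc]
        have h7 := nat m h4
        rw [h5] at h7
        subst h6
        have h8 : D.φ ((m ≫ t) ≫ x₀) ((m ≫ t) ≫ x₁) (e0 _) ⟨m ≫ v, h4⟩ = ⟨a, hab⟩ := Subtype.ext h7
        have h9 : a' = D.φ ((m ≫ t) ≫ x₁) ((m ≫ t) ≫ x₀) (e0 _).symm
          (D.φ ((m ≫ t) ≫ x₀) ((m ≫ t) ≫ x₁) (e0 _) ⟨m ≫ v, h4⟩) := by rw [h8]
        rw [h9, D.φ_comp, D.φ_self]
      · rw [sq.lift_snd, h6]
  refine ⟨⟨(D.φ (t ≫ x₀) (t ≫ x₁) (e0 t) ⟨v, sq.w⟩).2⟩, ⟨PullbackCone.IsLimit.mk _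
    (fun s => (main s.fst s.snd s.condition).choose)
    (fun s => (main s.fst s.snd s.condition).choose_spec.1.1)
    (fun s => (main s.fst s.snd s.condition).choose_spec.1.2)
    (fun s m h1 h2 => (main s.fst s.snd s.condition).choose_spec.2 m ⟨h1, h2⟩)⟩⟩

section transport

variable {S : Scheme.{u}} {ι : Type u} {X : ι → Scheme.{u}} {a : ∀ i, X i ⟶ S} (D : SchDDFam a)
  (E : ∀ i, (D.obj i).left.Modules)

/-- The modules are compatible with the descent datum. -/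
def Compat : Prop :=
  ∀ (Z : Scheme.{u}) (i j : ι) (x₀ : Z ⟶ X i) (x₁ : Z ⟶ X j) (h : x₀ ≫ a i = x₁ ≫ a j) (P : Scheme.{u}) (t : P ⟶ Z)
      (v : P ⟶ (D.obj i).left) (sq : IsPullback v t (D.obj i).hom x₀),
      Nonempty ((Scheme.Modules.pullback v).obj (E i) ≅ (Scheme.Modules.pullback
        (D.φ (t ≫ x₀) (t ≫ x₁) (by rw [Category.assoc, Category.assoc, h]) ⟨v, sq.w⟩).1).obj (E j))

variable {D E}

theorem Compat.rel_tr (hT : Compat D E) {T : Scheme.{u}} {i j : ι} (v : T ⟶ (D.obj i).left) (x : T ⟶ X j)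
    (h : v ≫ (D.obj i).hom ≫ a i = x ≫ a j) : Rel v (E i) (tr D v x h) (E j) := by
  let x₀ : T ⟶ X i := v ≫ (D.obj i).hom
  have h0 : x₀ ≫ a i = x ≫ a j := by rw [Category.assoc, h]
  let vP := pullback.fst (D.obj i).hom x₀
  let t := pullback.snd (D.obj i).hom x₀
  have sq : IsPullback vP t (D.obj i).hom x₀ := IsPullback.of_hasPullback _ _
  have h1 := hT T i j x₀ x h0 _ t vP sq
  rw [φ_val] at h1
  let s : T ⟶ pullback (D.obj i).hom x₀ := pullback.lift v (𝟙 T) (by rw [Category.id_comp])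
  have hs1 : s ≫ vP = v := pullback.lift_fst _ _ _
  have hs2 : s ≫ t = 𝟙 T := pullback.lift_snd _ _ _
  have h2 := Rel.comp s (Rel.mk h1)
  rw [comp_tr] at h2
  refine (Rel.of_eq hs1.symm (E i)).trans (h2.trans (Rel.of_eq ?_ (E j)))
  exact tr_congr D hs1 (by rw [← Category.assoc, hs2, Category.id_comp]) _

theorem Compat.rel_pt (hT : Compat D E) {T : Scheme.{u}} {t : T ⟶ S} (s : Sec D t) {i j : ι} (x : T ⟶ X i)
    (hx : t = x ≫ a i) (y : T ⟶ X j) (hy : t = y ≫ a j) : Rel (Sec.pt s x hx) (E i) (Sec.pt s y hy) (E j) := by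
  have h1 : Sec.pt s x hx ≫ (D.obj i).hom ≫ a i = y ≫ a j := by
    rw [← Category.assoc, Sec.pt_hom, ← hx, hy]
  refine (hT.rel_tr _ y h1).trans (Rel.of_eq ?_ _)
  exact Sec.tr_ev s (𝟙 T) x (by rw [Category.id_comp, hx]) y (by rw [Category.id_comp, hy]) h1

end transport

section universal

variable {S : Scheme.{u}} {ι : Type u} {X : ι → Scheme.{u}} {a : ∀ i, X i ⟶ S} {D : SchDDFam a}
  {V B : Scheme.{u}} {p : B ⟶ V} {j : V ⟶ S} {H : Over B}
  (e : (restr p (restr j (secF D))).RepresentableBy H)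

/-- The universal section. -/
noncomputable def univSec : Sec D ((H.hom ≫ p) ≫ j) := e.homEquiv (𝟙 H)

theorem homEquiv_eq {Y : Over B} (y : Y ⟶ H) :
    e.homEquiv y = (Sec.map (t' := (Y.hom ≫ p) ≫ j) y.left (by rw [← Over.w y]; simp only [Category.assoc])
      (univSec e) : Sec D ((Y.hom ≫ p) ≫ j)) := by
  have := e.homEquiv_comp y (𝟙 H)
  rw [Category.comp_id] at this
  exact this

/-- The section attached to a point of `H`. -/
noncomputable def sec {T : Scheme.{u}} (z : T ⟶ H.left) {t : T ⟶ S} (h : z ≫ (H.hom ≫ p) ≫ j = t) : Sec D t :=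
  Sec.map z h (univSec e)

theorem map_sec {T T' : Scheme.{u}} (z : T ⟶ H.left) {t : T ⟶ S} (h : z ≫ (H.hom ≫ p) ≫ j = t) (m : T' ⟶ T)
    {t' : T' ⟶ S} (h' : m ≫ t = t') :
    Sec.map m h' (sec e z h) = sec e (m ≫ z) (by rw [Category.assoc, h, h']) := Sec.map_map _ _ _ _ _

theorem sec_congr {T : Scheme.{u}} {z z' : T ⟶ H.left} (hz : z = z') {t : T ⟶ S} (h : z ≫ (H.hom ≫ p) ≫ j = t) :
    sec e z h = sec e z' (hz ▸ h) := by subst hz; rfl

theorem existsUnique_sec {T : Scheme.{u}} (x : T ⟶ B) {t : T ⟶ S} (ht : (x ≫ p) ≫ j = t) (s : Sec D t) :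
    ∃! z : T ⟶ H.left, ∃ h : z ≫ H.hom = x, sec e z (by rw [← ht, ← h]; simp only [Category.assoc]) = s := by
  subst ht
  let Y : Over B := Over.mk x
  refine ⟨(e.homEquiv.symm (show (restr p (restr j (secF D))).obj (op Y) from s)).left,
    ⟨Over.w _, ?_⟩, ?_⟩
  · have h1 := homEquiv_eq e (e.homEquiv.symm (show (restr p (restr j (secF D))).obj (op Y) from s))
    rw [Equiv.apply_symm_apply] at h1
    exact h1.symm
  · rintro z ⟨h, hz⟩
    have h1 : e.homEquiv (Over.homMk z h : Y ⟶ H) = s := (homEquiv_eq e _).trans hz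
    have h2 : (Over.homMk z h : Y ⟶ H) =
        e.homEquiv.symm (show (restr p (restr j (secF D))).obj (op Y) from s) := by
      rw [← h1, Equiv.symm_apply_apply]
    exact congrArg (fun k => k.left) h2

/-- The transport of `ofPresheaf e` in terms of sections. -/
theorem sec_transport {T : Scheme.{u}} (x₀ x₁ : T ⟶ B) (h : x₀ ≫ p = x₁ ≫ p) (v : Lifts H x₀) {t : T ⟶ S}
    (ht : v.1 ≫ (H.hom ≫ p) ≫ j = t)
    (ht' : ((ofPresheaf e).φ x₀ x₁ h v).1 ≫ (H.hom ≫ p) ≫ j = t) :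
    sec e v.1 ht = sec e ((ofPresheaf e).φ x₀ x₁ h v).1 ht' := by
  have h1 := ofPresheaf_φ e (T := Over.mk (x₀ ≫ p)) x₀ x₁ rfl h.symm v
  have h2 : ptEquiv e (T := Over.mk (x₀ ≫ p)) x₁ h.symm ((ofPresheaf e).φ x₀ x₁ h v) =
      ptEquiv e (T := Over.mk (x₀ ≫ p)) x₀ rfl v := by
    refine (congrArg _ h1).trans ?_
    rw [Equiv.apply_symm_apply]
  have h3 : ∀ (x : T ⟶ B) (hx : x ≫ p = x₀ ≫ p) (w : Lifts H x) (hw : w.1 ≫ (H.hom ≫ p) ≫ j = (x₀ ≫ p) ≫ j),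
      (ptEquiv e (T := Over.mk (x₀ ≫ p)) x hx w : Sec D ((x₀ ≫ p) ≫ j)) = sec e w.1 hw := by
    intro x hx w hw
    rw [ptEquiv_apply, homEquiv_eq]
    refine (Sec.map_map (D := D) (t := (H.hom ≫ p) ≫ j) (t' := (x ≫ p) ≫ j) (t'' := (x₀ ≫ p) ≫ j) w.1 _
      (𝟙 T) (by rw [Category.id_comp, hx]) (univSec e)).trans ?_
    exact Sec.map_congr (Category.id_comp _) _ _
  have ht0 : v.1 ≫ (H.hom ≫ p) ≫ j = (x₀ ≫ p) ≫ j := by
    rw [← Category.assoc, ← Category.assoc, v.2]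
  have ht1 : ((ofPresheaf e).φ x₀ x₁ h v).1 ≫ (H.hom ≫ p) ≫ j = (x₀ ≫ p) ≫ j := by
    have := ((ofPresheaf e).φ x₀ x₁ h v).2
    rw [← Category.assoc, ← Category.assoc]
    refine (congrArg (fun k => (k ≫ p) ≫ j) this).trans ?_
    rw [h]
  subst ht
  have h4 : sec e v.1 ht0 = sec e ((ofPresheaf e).φ x₀ x₁ h v).1 ht1 := by
    rw [← h3 x₀ rfl v ht0, ← h3 x₁ h.symm _ ht1]
    exact h2.symm
  have h5 := congrArg (Sec.map (t' := v.1 ≫ (H.hom ≫ p) ≫ j) (𝟙 T) (by rw [Category.id_comp, ht0])) h4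
  rw [map_sec, map_sec] at h5
  refine (sec_congr e (Category.id_comp _).symm _).trans (h5.trans (sec_congr e (Category.id_comp _) _))

variable {W : Scheme.{u}} {i : ι} (w : W ⟶ B) (x : W ⟶ X i) (hwx : (w ≫ p) ≫ j = x ≫ a i)

include hwx in
theorem assoc_aux {T : Scheme.{u}} {z : T ⟶ H.left} {y : T ⟶ W} (h : z ≫ H.hom = y ≫ w) :
    z ≫ (H.hom ≫ p) ≫ j = (y ≫ x) ≫ a i := by
  have h1 : z ≫ (H.hom ≫ p) ≫ j = (z ≫ H.hom) ≫ p ≫ j := by simp only [Category.assoc]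
  have h2 : (y ≫ x) ≫ a i = y ≫ (w ≫ p) ≫ j := by rw [hwx, Category.assoc]
  rw [h1, h, h2]
  simp only [Category.assoc]

/-- The point of `D.obj i` given by a point of `H` over `W`. -/
noncomputable def ptOf {T : Scheme.{u}} (z : T ⟶ H.left) (y : T ⟶ W) (h : z ≫ H.hom = y ≫ w) :
    T ⟶ (D.obj i).left :=
  Sec.pt (sec e z (assoc_aux w x hwx h)) (y ≫ x) rfl

theorem ptOf_hom {T : Scheme.{u}} (z : T ⟶ H.left) (y : T ⟶ W) (h : z ≫ H.hom = y ≫ w) :
    ptOf e w x hwx z y h ≫ (D.obj i).hom = y ≫ x := Sec.pt_hom _ _ _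

theorem comp_ptOf {T T' : Scheme.{u}} (z : T ⟶ H.left) (y : T ⟶ W) (h : z ≫ H.hom = y ≫ w) (m : T' ⟶ T)
    (h' : (m ≫ z) ≫ H.hom = (m ≫ y) ≫ w) : m ≫ ptOf e w x hwx z y h = ptOf e w x hwx (m ≫ z) (m ≫ y) h' := by
  have h1 : m ≫ (y ≫ x) ≫ a i = (m ≫ y ≫ x) ≫ a i := (Category.assoc _ _ _).symm
  have h2 := Sec.map_pt (sec e z (assoc_aux w x hwx h)) (y ≫ x) rfl m h1 rfl
  rw [map_sec] at h2
  refine h2.symm.trans ?_
  have key : ∀ (x' : T' ⟶ X i) (hx' : x' = m ≫ y ≫ x) (h3 : (m ≫ z) ≫ (H.hom ≫ p) ≫ j = x' ≫ a i)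
      (h4 : (m ≫ z) ≫ (H.hom ≫ p) ≫ j = (m ≫ y ≫ x) ≫ a i),
      Sec.pt (sec e (m ≫ z) h4) (m ≫ y ≫ x) rfl = Sec.pt (sec e (m ≫ z) h3) x' rfl := by
    intro x' hx' h3 h4
    subst hx'
    rfl
  exact key _ (Category.assoc _ _ _) _ _

theorem ptOf_congr {T : Scheme.{u}} {z z' : T ⟶ H.left} (hz : z = z') {y y' : T ⟶ W} (hy : y = y')
    (h : z ≫ H.hom = y ≫ w) : ptOf e w x hwx z y h = ptOf e w x hwx z' y' (by rw [← hz, ← hy, h]) := by
  subst hz hy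
  rfl

/-- `H ×_B W ≅ D.obj i ×_{X i} W`. -/
theorem isPullback_pt : IsPullback
    (ptOf e w x hwx (pullback.fst H.hom w) (pullback.snd H.hom w) pullback.condition)
    (pullback.snd H.hom w) (D.obj i).hom x := by
  have main : ∀ {R : Scheme.{u}} (v : R ⟶ (D.obj i).left) (y : R ⟶ W) (hvy : v ≫ (D.obj i).hom = y ≫ x),
      ∃! m : R ⟶ pullback H.hom w, m ≫ ptOf e w x hwx (pullback.fst H.hom w) (pullback.snd H.hom w)
        pullback.condition = v ∧ m ≫ pullback.snd H.hom w = y := by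
    intro R v y hvy
    have ht : ((y ≫ w) ≫ p) ≫ j = (y ≫ x) ≫ a i := by
      rw [Category.assoc y x, ← hwx]; simp only [Category.assoc]
    have hv : v ≫ (D.obj i).hom ≫ a i = (y ≫ x) ≫ a i := by rw [← Category.assoc, hvy]
    obtain ⟨z, ⟨hz, hs⟩, huniq⟩ := existsUnique_sec e (y ≫ w) ht (Sec.ofPt v hv)
    have hm : pullback.lift z y hz ≫ pullback.fst H.hom w = z := pullback.lift_fst _ _ _
    have hm' : pullback.lift z y hz ≫ pullback.snd H.hom w = y := pullback.lift_snd _ _ _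
    refine ⟨pullback.lift z y hz, ⟨?_, hm'⟩, ?_⟩
    · rw [comp_ptOf (h' := by rw [hm, hm', hz]), ptOf_congr e w x hwx hm hm', ptOf, hs]
      exact Sec.pt_ofPt _ _ _ hvy rfl
    · rintro m ⟨h1, h2⟩
      have h3 : (m ≫ pullback.fst H.hom w) ≫ H.hom = (m ≫ pullback.snd H.hom w) ≫ w := by
        rw [Category.assoc, pullback.condition, Category.assoc]
      rw [comp_ptOf (h' := h3)] at h1
      rw [ptOf_congr e w x hwx rfl h2] at h1
      have h4 : m ≫ pullback.fst H.hom w = z := by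
        refine huniq _ ⟨by rw [h3, h2], ?_⟩
        refine Sec.pt_injective (y ≫ x) rfl ?_
        refine h1.trans (Sec.pt_ofPt _ _ _ hvy rfl).symm
      apply pullback.hom_ext
      · rw [h4, hm]
      · rw [h2, hm']
  refine ⟨⟨ptOf_hom _ _ _ _ _ _ _⟩, ⟨PullbackCone.IsLimit.mk _
    (fun s => (main s.fst s.snd s.condition).choose)
    (fun s => (main s.fst s.snd s.condition).choose_spec.1.1)
    (fun s => (main s.fst s.snd s.condition).choose_spec.1.2)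
    (fun s m h1 h2 => (main s.fst s.snd s.condition).choose_spec.2 m ⟨h1, h2⟩)⟩⟩

/-- Comparison of the module on `H` with the given modules. -/
theorem rel_ptOf (E : ∀ i, (D.obj i).left.Modules) (N : H.left.Modules)
    (hN : Rel (pullback.fst H.hom w) N
      (ptOf e w x hwx (pullback.fst H.hom w) (pullback.snd H.hom w) pullback.condition) (E i))
    {T : Scheme.{u}} (z : T ⟶ H.left) (y : T ⟶ W) (h : z ≫ H.hom = y ≫ w) :
    Rel z N (ptOf e w x hwx z y h) (E i) := by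
  have hm : pullback.lift z y h ≫ pullback.fst H.hom w = z := pullback.lift_fst _ _ _
  have hm' : pullback.lift z y h ≫ pullback.snd H.hom w = y := pullback.lift_snd _ _ _
  have h1 := Rel.comp (pullback.lift z y h) hN
  rw [comp_ptOf (h' := by rw [hm, hm', h])] at h1
  exact (Rel.of_eq hm.symm N).trans (h1.trans (Rel.of_eq (ptOf_congr e w x hwx hm hm' _) _))

end universal

section glue

variable {S : Scheme.{u}} {ι : Type u} {X : ι → Scheme.{u}} {a : ∀ i, X i ⟶ S} {D : SchDDFam a}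
  {V B : Scheme.{u}} {p : B ⟶ V} {j : V ⟶ S} {H : Over B}
  (e : (restr p (restr j (secF D))).RepresentableBy H)

theorem ptOf_eq {W : Scheme.{u}} {i : ι} (w : W ⟶ B) (x : W ⟶ X i) (hwx : (w ≫ p) ≫ j = x ≫ a i)
    {T : Scheme.{u}} (z : T ⟶ H.left) (y : T ⟶ W) (h : z ≫ H.hom = y ≫ w) {t : T ⟶ S}
    (ht : z ≫ (H.hom ≫ p) ≫ j = t) (hx : t = (y ≫ x) ≫ a i) :
    ptOf e w x hwx z y h = Sec.pt (sec e z ht) (y ≫ x) hx := by
  subst hx
  rfl

variable {κ : Type} {W : κ → Scheme.{u}} {α : κ → ι} (w : ∀ l, W l ⟶ B) (x : ∀ l, W l ⟶ X (α l))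
  (hwx : ∀ l, (w l ≫ p) ≫ j = x l ≫ a (α l)) [∀ l, IsOpenImmersion (w l)]
  (hw : ∀ b : B, ∃ (l : κ) (y : W l), w l y = b)
  (hd : ∀ l m, l ≠ m → Disjoint (Set.range (w l).base) (Set.range (w m).base))
  (E : ∀ i, (D.obj i).left.Modules) (N : H.left.Modules)
  (hN : ∀ l, Rel (pullback.fst H.hom (w l)) N
    (ptOf e (w l) (x l) (hwx l) (pullback.fst H.hom (w l)) (pullback.snd H.hom (w l)) pullback.condition) (E (α l)))

include hw hd hN in
/-- Two points of `H` with the same section pull `N` back to isomorphic modules. -/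
theorem rel_of_sec (hT : Compat D E) {T : Scheme.{u}} (v v' : T ⟶ H.left) {t : T ⟶ S}
    (h : v ≫ (H.hom ≫ p) ≫ j = t) (h' : v' ≫ (H.hom ≫ p) ≫ j = t) (hs : sec e v h = sec e v' h') :
    Rel v N v' N := by
  let O : κ × κ → T.Opens := fun lm =>
    (v ≫ H.hom) ⁻¹ᵁ (w lm.1).opensRange ⊓ (v' ≫ H.hom) ⁻¹ᵁ (w lm.2).opensRange
  refine K790.Glue.nonempty_iso_of_disjoint (fun lm => (O lm).ι) ?_ ?_ ?_
  · intro z
    obtain ⟨l, y, hy⟩ := hw ((v ≫ H.hom) z)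
    obtain ⟨m, y', hy'⟩ := hw ((v' ≫ H.hom) z)
    exact ⟨(l, m), by
      rw [Scheme.Opens.opensRange_ι]
      exact ⟨⟨y, hy⟩, ⟨y', hy'⟩⟩⟩
  · rintro ⟨l, m⟩ ⟨l', m'⟩ hne
    rw [Scheme.Opens.opensRange_ι, Scheme.Opens.opensRange_ι, eq_bot_iff]
    rintro z ⟨⟨⟨y₁, h₁⟩, ⟨y₂, h₂⟩⟩, ⟨⟨y₃, h₃⟩, ⟨y₄, h₄⟩⟩⟩
    by_cases hl : l = l'
    · have hm : m ≠ m' := fun hm => hne (by rw [hl, hm])
      exact (Set.disjoint_left.1 (hd m m' hm) ⟨y₂, h₂⟩ ⟨y₄, h₄⟩).elim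
    · exact (Set.disjoint_left.1 (hd l l' hl) ⟨y₁, h₁⟩ ⟨y₃, h₃⟩).elim
  · rintro ⟨l, m⟩
    let U := (O (l, m)).ι
    have hr : Set.range (U ≫ v ≫ H.hom) ⊆ Set.range (w l) := by
      rintro _ ⟨z, rfl⟩
      exact z.2.1
    have hr' : Set.range (U ≫ v' ≫ H.hom) ⊆ Set.range (w m) := by
      rintro _ ⟨z, rfl⟩
      exact z.2.2
    let y := IsOpenImmersion.lift (w l) (U ≫ v ≫ H.hom) hr
    let y' := IsOpenImmersion.lift (w m) (U ≫ v' ≫ H.hom) hr'
    have hy : (U ≫ v) ≫ H.hom = y ≫ w l := by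
      rw [Category.assoc]; exact (IsOpenImmersion.lift_fac _ _ _).symm
    have hy' : (U ≫ v') ≫ H.hom = y' ≫ w m := by
      rw [Category.assoc]; exact (IsOpenImmersion.lift_fac _ _ _).symm
    have h1 := rel_ptOf e (w l) (x l) (hwx l) E N (hN l) (U ≫ v) y hy
    have h2 := rel_ptOf e (w m) (x m) (hwx m) E N (hN m) (U ≫ v') y' hy'
    have ht1 : (U ≫ v) ≫ (H.hom ≫ p) ≫ j = U ≫ t := by rw [Category.assoc, h]
    have ht2 : (U ≫ v') ≫ (H.hom ≫ p) ≫ j = U ≫ t := by rw [Category.assoc, h']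
    have hx1 : U ≫ t = (y ≫ x l) ≫ a (α l) := ht1.symm.trans (assoc_aux (w l) (x l) (hwx l) hy)
    have hx2 : U ≫ t = (y' ≫ x m) ≫ a (α m) := ht2.symm.trans (assoc_aux (w m) (x m) (hwx m) hy')
    rw [ptOf_eq e (w l) (x l) (hwx l) (U ≫ v) y hy ht1 hx1] at h1
    rw [ptOf_eq e (w m) (x m) (hwx m) (U ≫ v') y' hy' ht2 hx2] at h2
    have h3 : sec e (U ≫ v) ht1 = sec e (U ≫ v') ht2 := by
      rw [← map_sec e v h U rfl, ← map_sec e v' h' U rfl, hs]
    rw [h3] at h1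
    have h4 := h1.trans ((hT.rel_pt (sec e (U ≫ v') ht2) (y ≫ x l) hx1 (y' ≫ x m) hx2).trans h2.symm)
    exact ((Rel.pull U v N).trans (h4.trans (Rel.pull U v' N).symm)).out

end glue

section main

variable {S : Scheme.{u}} {ι : Type u} {X : ι → Scheme.{u}} {a : ∀ i, X i ⟶ S} {D : SchDDFam a}

theorem exists_rep_affine (hPA : PolAffStmt.{u}) (hP : PolStmt.{u}) (hL : LfpStmt.{u}) {g r : ℕ} {d : ℤ}
    (hg : 2 ≤ g) (hr : 1 ≤ r) (hu : Presieve.ofArrows X a ∈ Scheme.fpqcPrecoverage S)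
    (E : ∀ i, (D.obj i).left.Modules) (hQ : ∀ i, FamCond g r d (D.obj i).hom (E i)) (hT : Compat D E)
    {V : Scheme.{u}} [IsAffine V] (j : V ⟶ S) :
    ∃ E : Over V, Nonempty ((restr j (secF D)).RepresentableBy E) := by
  have hcov : Presieve.ofArrows (fun i => pullback (a i) j) (fun i => pullback.snd (a i) j) ∈
      Scheme.fpqcPrecoverage V :=
    Precoverage.mem_coverings_of_isPullback a hu j _ (fun i => pullback.fst (a i) j)
      (fun i => (IsPullback.of_hasPullback (a i) j).flip)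
  obtain ⟨n, W, α, k, hk1, hk2, hk3, hk4⟩ := Groth.Agent.Desc.FpqcRefine.exists_refine
    (fun i => pullback.snd (a i) j) hcov
  let r' : ∀ l, W l ⟶ V := fun l => k l ≫ pullback.snd (a (α l)) j
  let x : ∀ l, W l ⟶ X (α l) := fun l => k l ≫ pullback.fst (a (α l)) j
  have hx : ∀ l, x l ≫ a (α l) = r' l ≫ j := fun l => by
    simp only [x, r', Category.assoc, pullback.condition]
  let p : (∐ W) ⟶ V := Sigma.desc r'
  have hp1 : Flat p := IsZariskiLocalAtSource.sigmaDesc (P := @Flat) hk3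
  have hp2 : Surjective p := by
    refine ⟨fun v => ?_⟩
    obtain ⟨l, w, hw⟩ := hk4 v
    refine ⟨Sigma.ι W l w, ?_⟩
    rw [← hw, ← Scheme.Hom.comp_apply]
    exact congrArg (fun f : W l ⟶ V => f w) (Sigma.ι_desc r' l)
  have hp3 : IsAffine (∐ W) := inferInstance
  have hp4 : QuasiCompact p := inferInstance
  let F := restr j (secF D)
  let G := restr p F
  have hG : IsZarSheaf G := Groth.Agent.Desc.IntEff.isZarSheaf_restr p
    (Groth.Agent.Desc.IntEff.isZarSheaf_restr j (isZarSheaf_secF D))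
  let E₁ : ∀ l, Over (W l) := fun l => (Over.pullback (x l)).obj (D.obj (α l))
  let e₁ : ∀ l, (restr (Sigma.ι W l) G).RepresentableBy (E₁ l) := fun l =>
    (repOver D (r' l ≫ j) (α l) (x l) (hx l)).ofIso
      ((restrCompIso (Sigma.ι_desc r' l) F) ≪≫ (restrCompIso rfl (secF D))).symm
  obtain ⟨H, ⟨eH⟩, -⟩ := exists_rep_sigma hG E₁ e₁
  -- the module on `H`
  let w : ∀ l, W l ⟶ (∐ W) := fun l => Sigma.ι W l
  have hwx : ∀ l, (w l ≫ p) ≫ j = x l ≫ a (α l) := fun l => by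
    rw [hx l, Sigma.ι_desc]
  have hw : ∀ b : ((∐ W : Scheme.{u}) : Type u), ∃ (l : Fin n) (y : W l), w l y = b := fun b => by
    obtain ⟨l, y, hy⟩ := (sigmaOpenCover W).exists_eq b
    exact ⟨l, y, hy⟩
  have hd : ∀ l m, l ≠ m → Disjoint (Set.range (w l).base) (Set.range (w m).base) := fun l m hlm => by
    have h1 := disjoint_opensRange_sigmaι W l m hlm
    rw [disjoint_iff] at h1
    rw [Set.disjoint_iff_inter_eq_empty]
    exact congrArg (fun O : (∐ W : Scheme.{u}).Opens => (O : Set (∐ W : Scheme.{u}))) h1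
  let pt := fun l => ptOf eH (w l) (x l) (hwx l) (pullback.fst H.hom (w l)) (pullback.snd H.hom (w l))
    pullback.condition
  obtain ⟨N, hN⟩ := exists_module (fun l => pullback.fst H.hom (w l)) (fun l m hlm => by
      rw [Set.disjoint_left]
      rintro _ ⟨y, rfl⟩ ⟨y', hy'⟩
      have m1 : H.hom (pullback.fst H.hom (w l) y) ∈ Set.range (w l) := ⟨pullback.snd H.hom (w l) y, by
        rw [← Scheme.Hom.comp_apply, ← Scheme.Hom.comp_apply, pullback.condition]⟩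
      have m2 : H.hom (pullback.fst H.hom (w m) y') ∈ Set.range (w m) := ⟨pullback.snd H.hom (w m) y', by
        rw [← Scheme.Hom.comp_apply, ← Scheme.Hom.comp_apply, pullback.condition]⟩
      have hy2 : pullback.fst H.hom (w m) y' = pullback.fst H.hom (w l) y := hy'
      rw [hy2] at m2
      exact Set.disjoint_left.1 (hd l m hlm) m1 m2)
    (fun l => (Scheme.Modules.pullback (pt l)).obj (E (α l)))
  have hFam : FamCond g r d H.hom N := by
    refine famCond_of_cover H.hom N W w hw (fun l => pullback H.hom (w l)) (fun l => pullback.fst H.hom (w l))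
      (fun l => pullback.snd H.hom (w l)) (fun l => IsPullback.of_hasPullback _ _) fun l => ?_
    exact famCond_of_iso (hN l).some.symm
      (famCond_pull (isPullback_pt eH (w l) (x l) (hwx l)) (hQ (α l)))
  have hrel : ∀ {T : Scheme.{u}} (v v' : T ⟶ H.left) {t : T ⟶ S}
      (h : v ≫ (H.hom ≫ p) ≫ j = t) (h' : v' ≫ (H.hom ≫ p) ≫ j = t) (_ : sec eH v h = sec eH v' h'),
      Rel v N v' N := rel_of_sec eH w x hwx hw hd E N hN hT
  -- the polarization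
  obtain ⟨Pol, hA, hB, hC⟩ := hP g r d hg hr
  obtain ⟨L, hPL⟩ := hA H.left (∐ W) H.hom N hp3 hFam
  have hdat : PolDatum p (ofPresheaf eH) L := by
    intro Z hZ x₀ x₁ h T t v sq
    have sq₁ := isPullback_transport (ofPresheaf eH) x₀ x₁ h t v sq
    let v' := ((ofPresheaf eH).φ (t ≫ x₀) (t ≫ x₁) (by rw [Category.assoc, Category.assoc, h]) ⟨v, sq.w⟩).1
    have hv : Rel v' N v N := by
      have ht' : v' ≫ (H.hom ≫ p) ≫ j = v ≫ (H.hom ≫ p) ≫ j := by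
        have h1 : v' ≫ H.hom = t ≫ x₁ := sq₁.w
        have h2 : v ≫ H.hom = t ≫ x₀ := sq.w
        calc v' ≫ (H.hom ≫ p) ≫ j = (v' ≫ H.hom) ≫ p ≫ j := by simp only [Category.assoc]
          _ = (v ≫ H.hom) ≫ p ≫ j := by
            rw [h1, h2, Category.assoc, Category.assoc, ← Category.assoc x₁, ← Category.assoc x₀, h]
          _ = v ≫ (H.hom ≫ p) ≫ j := by simp only [Category.assoc]
      exact hrel v' v ht' rfl (sec_transport eH (t ≫ x₀) (t ≫ x₁) _ ⟨v, sq.w⟩ rfl ht').symm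
    have hF' : FamCond g r d t ((Scheme.Modules.pullback v).obj N) := famCond_pull sq hFam
    obtain ⟨L', hPL'⟩ := hA T Z t _ hZ hF'
    obtain ⟨i₁⟩ := hC H.left T (∐ W) Z H.hom t v x₀ N L _ L' hp3 hZ sq ⟨Iso.refl _⟩ hFam hPL hPL'
    obtain ⟨i₂⟩ := hC H.left T (∐ W) Z H.hom t v' x₁ N L _ L' hp3 hZ sq₁ hv.out hFam hPL hPL'
    exact ⟨i₁ ≪≫ i₂.symm⟩
  have h1 : IsProper H.hom := hFam.1.2.1
  have h2 : Flat H.hom := hFam.1.1
  have h3 : LocallyOfFinitePresentation H.hom := hL H.left _ H.hom g hg hFam.1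
  obtain ⟨Y, ⟨i⟩⟩ := hPA _ _ p hp3 inferInstance hp1 hp2 (ofPresheaf eH) h1 h2 h3
    (geometricallyConnected_of_fam hFam.1) (geometricallyReduced_of_fam hFam.1) L
    (hB H.left (∐ W) H.hom N L hp3 hFam hPL) hdat
  have := Groth.Agent.S1131.result p
  have := Groth.Agent.S1132.result p
  exact ⟨Y, ⟨representableByOfEffective eH (isPSheaf_restr_secF D j p) i⟩⟩

end main

/-- **J8.** Descent data of properly balanced families are effective. -/
theorem main : PolAffStmt.{u} → PolStmt.{u} → LfpStmt.{u} → EffStmt.{u} := by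
  intro hPA hP hL S g r d hg hr T b ι X u hu D E hQ hT
  have h := fun i => exists_rep_affine hPA hP hL hg hr hu E hQ hT (T.affineCover.f i)
  choose E₁ hE using h
  obtain ⟨H, ⟨r⟩⟩ := exists_rep_of_openImmersions (isZarSheaf_secF D) T.affineCover.f
    (fun s => by
      obtain ⟨i, y, hy⟩ := T.affineCover.exists_eq s
      exact ⟨i, y, hy⟩) E₁ (fun i => (hE i).some)
  exact ⟨H, effective_of_rep D r⟩

end Groth.Agent.VecBal.K678.Eff
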