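import Groth.Agent.VecBal.K812.Iface
import Groth.Agent.ASBun.K790.Glue
import Groth.Agent.FlatB.GeomRed
import Groth.Agent.Fdesc.FlatBC
import Groth.Agent.Ega3B.FlatRestrict
import Groth.Agent.Dcoh.FTFP
import Groth.Agent.FormalA.PullbackQC
import Groth.Agent.CurvesC.DegIso
import Groth.Agent.CurvesB.NodeSch2
import Groth.Agent.Models2.FlatIso
import Groth.Agent.Pic13.H138.Glue2

/-!
# Families of properly balanced bundles: base change, locality on the base (for node J8)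

* `famCond_iff`, `FamCond.of_iso`, `FamCond.pull`, `famCond_of_cover`;
* `FamCond.geometricallyConnected`, `FamCond.geometricallyReduced`;
* `exists_module`: modules on a disjoint union.
-/

set_option autoImplicit false
universe v u
open CategoryTheory CategoryTheory.Limits AlgebraicGeometry
open Groth.Agent.VecBal.K812.Iface

namespace Groth.Agent.VecBal.K678.Eff

/-! ### Comparison of pulled back modules -/

section Rel

variable {T T' A B C : Scheme.{u}}

/-- `a^* M ≅ b^* N`. -/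
def Rel (a : T ⟶ A) (M : A.Modules) (b : T ⟶ B) (N : B.Modules) : Prop :=
  Nonempty ((Scheme.Modules.pullback a).obj M ≅ (Scheme.Modules.pullback b).obj N)

theorem Rel.refl (a : T ⟶ A) (M : A.Modules) : Rel a M a M := ⟨Iso.refl _⟩

theorem Rel.symm {a : T ⟶ A} {M : A.Modules} {b : T ⟶ B} {N : B.Modules} (h : Rel a M b N) : Rel b N a M :=
  ⟨h.some.symm⟩

theorem Rel.trans {a : T ⟶ A} {M : A.Modules} {b : T ⟶ B} {N : B.Modules} {c : T ⟶ C} {P : C.Modules}
    (h : Rel a M b N) (h' : Rel b N c P) : Rel a M c P := ⟨h.some ≪≫ h'.some⟩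

theorem Rel.comp (s : T' ⟶ T) {a : T ⟶ A} {M : A.Modules} {b : T ⟶ B} {N : B.Modules} (h : Rel a M b N) :
    Rel (s ≫ a) M (s ≫ b) N :=
  ⟨((Scheme.Modules.pullbackComp s a).app M).symm ≪≫ (Scheme.Modules.pullback s).mapIso h.some ≪≫
    (Scheme.Modules.pullbackComp s b).app N⟩

theorem Rel.of_eq {a a' : T ⟶ A} (h : a = a') (M : A.Modules) : Rel a M a' M := by
  subst h; exact Rel.refl _ _

theorem Rel.pull (a : T ⟶ A) (f : A ⟶ B) (M : B.Modules) :
    Rel a ((Scheme.Modules.pullback f).obj M) (a ≫ f) M := ⟨(Scheme.Modules.pullbackComp a f).app M⟩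

theorem Rel.of_iso (a : T ⟶ A) {M N : A.Modules} (e : Nonempty (M ≅ N)) : Rel a M a N :=
  ⟨(Scheme.Modules.pullback a).mapIso e.some⟩

theorem Rel.mk {a : T ⟶ A} {M : A.Modules} {b : T ⟶ B} {N : B.Modules}
    (h : Nonempty ((Scheme.Modules.pullback a).obj M ≅ (Scheme.Modules.pullback b).obj N)) : Rel a M b N := h

theorem Rel.out {a : T ⟶ A} {M : A.Modules} {b : T ⟶ B} {N : B.Modules} (h : Rel a M b N) :
    Nonempty ((Scheme.Modules.pullback a).obj M ≅ (Scheme.Modules.pullback b).obj N) := h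

end Rel

/-! ### Isomorphism invariance -/

section Iso

variable {Ω : Type u} [Field Ω] {X : Scheme.{u}} {q : X ⟶ Spec (CommRingCat.of Ω)} {E E' : X.Modules}

theorem balanced_of_iso (e : E ≅ E') {r g : ℕ} {d : ℤ} (h : VecSt.Balanced Ω X q E r d g) :
    VecSt.Balanced Ω X q E' r d g := by
  intro Z hZ hs
  let : (VecSt.subsch X Z hZ).Over (Spec (CommRingCat.of Ω)) := ⟨VecSt.subschι X Z hZ ≫ q⟩
  have h1 := h Z hZ hs
  have h2 := CurvesC.DegIso.deg_congr Ω ((Scheme.Modules.pullback (VecSt.subschι X Z hZ)).mapIso e.symm) r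
  rw [h2]
  exact h1

theorem isAdmissible_of_iso (e : E ≅ E') {r : ℕ} (h : VecBal.IsAdmissible Ω X q E r) :
    VecBal.IsAdmissible Ω X q E' r := by
  intro k c
  obtain ⟨a, ⟨R', ι, hι, l, hl, L, ⟨i⟩, h2⟩, h3⟩ := h k c
  exact ⟨a, ⟨R', ι, hι, l, hl, L, ⟨(Scheme.Modules.pullback ι).mapIso e.symm ≪≫ i⟩, h2⟩, h3⟩

theorem pb_of_iso [IsAlgClosed Ω] (e : E ≅ E') {r g : ℕ} {d : ℤ} (h : VecBal.PB r d g Ω X q E) :
    VecBal.PB r d g Ω X q E' :=
  ⟨balanced_of_iso e h.1, isAdmissible_of_iso e h.2⟩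

theorem isFinLocFreeOfRank_of_iso {r : ℕ} (e : E ≅ E') (h : FlatMod.IsFinLocFreeOfRank r E) :
    FlatMod.IsFinLocFreeOfRank r E' := by
  intro x
  obtain ⟨U, hx, ⟨i⟩⟩ := h x
  exact ⟨U, hx, ⟨(Scheme.Modules.restrictFunctor U.ι).mapIso e.symm ≪≫ i⟩⟩

/-- The condition on a geometric fibre. -/
def Pt (g r : ℕ) (d : ℤ) (Ω : Type u) [Field Ω] [IsAlgClosed Ω] (X : Scheme.{u})
    (q : X ⟶ Spec (CommRingCat.of Ω)) (E : X.Modules) : Prop :=
  VecSt.IsSemistablePtd Ω X q g ∧ FlatMod.IsFinLocFreeOfRank r E ∧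
    (letI : X.Over (Spec (CommRingCat.of Ω)) := ⟨q⟩
     Curv2.deg Ω X E r = d) ∧ VecBal.PB r d g Ω X q E

theorem Pt.of_iso [IsAlgClosed Ω] (e : E ≅ E') {r g : ℕ} {d : ℤ} (h : Pt g r d Ω X q E) : Pt g r d Ω X q E' := by
  refine ⟨h.1, isFinLocFreeOfRank_of_iso e h.2.1, ?_, pb_of_iso e h.2.2.2⟩
  let : X.Over (Spec (CommRingCat.of Ω)) := ⟨q⟩
  rw [CurvesC.DegIso.deg_congr Ω e.symm]
  exact h.2.2.1

end Iso

section Fam

variable {g r : ℕ} {d : ℤ}

theorem famCond_iff {C T : Scheme.{u}} {f : C ⟶ T} {E : C.Modules} :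
    FamCond g r d f E ↔ Flat f ∧ IsProper f ∧ FlatMod.IsFlatOver f E ∧ CohB1.IsFP E ∧
      VecSt.Fibrewise f E (Pt g r d) := by
  constructor
  · rintro ⟨⟨h1, h2, h3⟩, ⟨h4, h5, h6⟩, h7, h8⟩
    exact ⟨h1, h2, h4, h5, fun Ω _ _ t Xt i qt sq => ⟨h3 Ω t Xt i qt sq, h6 Ω t Xt i qt sq, h7 Ω t Xt i qt sq,
      h8 Ω t Xt i qt sq⟩⟩
  · rintro ⟨h1, h2, h4, h5, h⟩
    exact ⟨⟨h1, h2, fun Ω _ _ t Xt i qt sq => (h Ω t Xt i qt sq).1⟩,
      ⟨h4, h5, fun Ω _ _ t Xt i qt sq => (h Ω t Xt i qt sq).2.1⟩,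
      fun Ω _ _ t Xt i qt sq => (h Ω t Xt i qt sq).2.2.1, fun Ω _ _ t Xt i qt sq => (h Ω t Xt i qt sq).2.2.2⟩

theorem famCond_of_iso {C T : Scheme.{u}} {f : C ⟶ T} {E E' : C.Modules} (e : E ≅ E') (h : FamCond g r d f E) :
    FamCond g r d f E' := by
  rw [famCond_iff] at h ⊢
  obtain ⟨h1, h2, h3, h4, h5⟩ := h
  exact ⟨h1, h2, Models2.FlatIso.isFlatOver_of_iso f e h3, Dcoh.FTFP.isFP_of_iso e h4,
    fun Ω _ _ t Xt i qt sq => (h5 Ω t Xt i qt sq).of_iso ((Scheme.Modules.pullback i).mapIso e)⟩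

/-- Base change. -/
theorem famCond_pull {C C' T T' : Scheme.{u}} {f : C ⟶ T} {f' : C' ⟶ T'} {top : C' ⟶ C} {b : T' ⟶ T}
    (sq : IsPullback top f' f b) {E : C.Modules} (h : FamCond g r d f E) :
    FamCond g r d f' ((Scheme.Modules.pullback top).obj E) := by
  rw [famCond_iff] at h ⊢
  obtain ⟨h1, h2, h3, h4, h5⟩ := h
  refine ⟨MorphismProperty.of_isPullback sq h1, MorphismProperty.of_isPullback sq h2,
    fun z => Fdesc.FlatBC.isFlatOverAt_pullback sq E z (h3 _), FormalA.PullbackQC.isFP_pullback top E h4,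
    fun Ω _ _ t Xt i qt sq' => ?_⟩
  exact (h5 Ω (t ≫ b) Xt (i ≫ top) qt (sq'.paste_horiz sq)).of_iso
    ((Scheme.Modules.pullbackComp i top).app E).symm

/-- Locality on the base. -/
theorem famCond_of_cover {H B : Scheme.{u}} (f : H ⟶ B) (M : H.Modules) {κ : Type v} (W : κ → Scheme.{u})
    (w : ∀ k, W k ⟶ B) [∀ k, IsOpenImmersion (w k)] (hw : ∀ b : B, ∃ (k : κ) (y : W k), w k y = b)
    (Y : κ → Scheme.{u}) (c : ∀ k, Y k ⟶ H) (g' : ∀ k, Y k ⟶ W k) (sq : ∀ k, IsPullback (c k) (g' k) f (w k))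
    (h : ∀ k, FamCond g r d (g' k) ((Scheme.Modules.pullback (c k)).obj M)) : FamCond g r d f M := by
  have hc : ∀ k, IsOpenImmersion (c k) := fun k => 
    MorphismProperty.of_isPullback (sq k).flip (inferInstance : IsOpenImmersion (w k))
  have hY : ∀ x : H, ∃ (k : κ) (y : Y k), c k y = x := by
    intro x
    obtain ⟨k, y, hy⟩ := hw (f x)
    obtain ⟨z, hz, -⟩ := Scheme.exists_preimage_of_isPullback (sq k) x y hy.symm
    exact ⟨k, z, hz⟩
  let 𝒰 : Scheme.OpenCover.{v} B := Scheme.Cover.mkOfCovers κ W w hw (fun k => inferInstance)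
  have key : ∀ P : MorphismProperty Scheme.{u}, IsZariskiLocalAtTarget P → (∀ k, P (g' k)) → P f := by
    intro P _ hP
    refine IsZariskiLocalAtTarget.of_openCover 𝒰 fun k => ?_
    have h1 : pullback.snd f (w k) = (sq k).isoPullback.inv ≫ g' k := ((sq k).isoPullback_inv_snd).symm
    change P (pullback.snd f (w k))
    rw [h1, P.cancel_left_of_respectsIso]
    exact hP k
  have h' := fun k => famCond_iff.1 (h k)
  rw [famCond_iff]
  refine ⟨key @Flat inferInstance fun k => (h' k).1, key @IsProper inferInstance fun k => (h' k).2.1, fun x => ?_,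
    ?_, fun Ω _ _ t Xt i qt sq' => ?_⟩
  · obtain ⟨k, y, rfl⟩ := hY x
    rw [← Ega3B.FlatRestrict.isFlatOverAt_restrict_iff f (g' k) (c k) (w k) (sq k).w M y]
    exact Models2.FlatIso.isFlatOverAt_of_iso _ ((Scheme.Modules.restrictFunctorIsoPullback (c k)).app M).symm y
      ((h' k).2.2.1 y)
  · refine Dcoh.FTFP.isFP_of_cover fun x => ?_
    obtain ⟨k, y, rfl⟩ := hY x
    exact ⟨Y k, c k, hc k, ⟨y, rfl⟩, Dcoh.FTFP.isFP_of_iso
      ((Scheme.Modules.restrictFunctorIsoPullback (c k)).app M).symm (h' k).2.2.2.1⟩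
  · obtain ⟨k, y, hy⟩ := hw (t (IsLocalRing.closedPoint Ω))
    have hr : Set.range t ⊆ Set.range (w k) := by
      rintro _ ⟨z, rfl⟩
      exact ⟨y, by rw [hy, Subsingleton.elim z (IsLocalRing.closedPoint Ω)]⟩
    let t' := IsOpenImmersion.lift (w k) t hr
    have ht' : t' ≫ w k = t := IsOpenImmersion.lift_fac _ _ _
    let i' : Xt ⟶ Y k := (sq k).lift i (qt ≫ t') (by rw [Category.assoc, ht', sq'.w])
    have hi' : i' ≫ c k = i := (sq k).lift_fst _ _ _
    have hi'' : i' ≫ g' k = qt ≫ t' := (sq k).lift_snd _ _ _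
    have sq'' : IsPullback i' qt (g' k) t' := IsPullback.of_right (by rw [hi', ht']; exact sq') hi'' (sq k)
    exact ((h' k).2.2.2.2 Ω t' Xt i' qt sq'').of_iso
      ((Rel.pull i' (c k) M).trans (Rel.of_eq hi' M)).out.some

/-- A statement about schemes over algebraically closed fields descends to all fields. -/
theorem geometrically_of_fam (P : ObjectProperty Scheme.{u})
    (hP : ∀ {Z' Z : Scheme.{u}} (p : Z' ⟶ Z), Flat p → Surjective p → P Z' → P Z)
    {C T : Scheme.{u}} {f : C ⟶ T}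
    (h : ∀ (Ω : Type u) [Field Ω] [IsAlgClosed Ω] (t : Spec (CommRingCat.of Ω) ⟶ T) (Xt : Scheme.{u}) (i : Xt ⟶ C)
      (qt : Xt ⟶ Spec (CommRingCat.of Ω)), IsPullback i qt f t → P Xt) : geometrically P f := by
  intro K _ y Z fst snd sq
  let e : Spec (CommRingCat.of (AlgebraicClosure K)) ⟶ Spec (CommRingCat.of K) :=
    Spec.map (CommRingCat.ofHom (algebraMap K (AlgebraicClosure K)))
  have he1 : Surjective e := by
    refine ⟨fun x => ⟨IsLocalRing.closedPoint _, Subsingleton.elim _ _⟩⟩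
  have he2 : Flat e := by
    rw [Flat.SpecMap_iff]
    exact RingHom.flat_algebraMap_iff.2 inferInstance
  refine hP (pullback.fst snd e) inferInstance inferInstance ?_
  exact h (AlgebraicClosure K) (e ≫ y) (pullback snd e) (pullback.fst snd e ≫ fst) (pullback.snd snd e)
    ((IsPullback.of_hasPullback snd e).paste_horiz sq)

end Fam

theorem geometricallyConnected_of_fam {g : ℕ} {C T : Scheme.{u}} {f : C ⟶ T} (h : VecSt.IsSemistableFam f g) :
    GeometricallyConnected f := by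
  refine ⟨geometrically_of_fam _ ?_ fun Ω _ _ t Xt i qt sq => (h.2.2 Ω t Xt i qt sq).2.1⟩
  intro Z' Z p _ hp hZ'
  have : ConnectedSpace Z' := hZ'
  exact hp.surj.connectedSpace p.continuous

theorem geometricallyReduced_of_fam {g : ℕ} {C T : Scheme.{u}} {f : C ⟶ T} (h : VecSt.IsSemistableFam f g) :
    GeometricallyReduced f := by
  refine ⟨geometrically_of_fam _ ?_ fun Ω _ _ t Xt i qt sq => ?_⟩
  · intro Z' Z p _ _ hZ'
    have : IsReduced Z' := hZ'
    exact FlatB.GeomRed.isReduced_of_flat_of_surjective p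
  · obtain ⟨h1, -, -, ⟨h2, -⟩, -⟩ := h.2.2 Ω t Xt i qt sq
    let : Xt.Over (Spec (CommRingCat.of Ω)) := ⟨qt⟩
    have : IsProper (Xt ↘ (Spec (CommRingCat.of Ω))) := h1
    have h3 := CurvesB.NodeSch2.geometricallyReduced_of_atWorstNodal Ω h2
    exact GeometricallyReduced.isReduced_of_flat_of_isLocallyNoetherian (Xt ↘ (Spec (CommRingCat.of Ω)))

/-! ### Modules on a disjoint union -/

theorem nonempty_biproduct_of_isZero {C : Type*} [Category* C] [Preadditive C] {κ : Type} [Finite κ]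
    [HasFiniteBiproducts C] (G : κ → C) (k : κ) (h : ∀ l, l ≠ k → IsZero (G l)) : Nonempty (⨁ G ≅ G k) := by
  classical
  exact ⟨{ hom := biproduct.π G k
           inv := biproduct.ι G k
           hom_inv_id := by
             apply biproduct.hom_ext'
             intro l
             by_cases hl : l = k
             · subst hl; simp
             · exact (h l hl).eq_of_src _ _
           inv_hom_id := by simp }⟩

theorem exists_module {H : Scheme.{u}} {κ : Type} [Finite κ] {Y : κ → Scheme.{u}} (c : ∀ k, Y k ⟶ H)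
    [∀ k, IsOpenImmersion (c k)] (hd : ∀ k l, k ≠ l → Disjoint (Set.range (c k).base) (Set.range (c l).base))
    (M : ∀ k, (Y k).Modules) :
    ∃ N : H.Modules, ∀ k, Nonempty ((Scheme.Modules.pullback (c k)).obj N ≅ M k) := by
  let F : κ → H.Modules := fun k => (Scheme.Modules.pushforward (c k)).obj (M k)
  refine ⟨⨁ F, fun k => ?_⟩
  have : (Scheme.Modules.restrictFunctor (c k)).Additive := ⟨rfl⟩
  obtain ⟨e⟩ := nonempty_biproduct_of_isZero (fun l => (Scheme.Modules.restrictFunctor (c k)).obj (F l)) k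
    fun l hl => Pic13.H138.Glue2.isZero_restrict_push (c k) (c l) (hd k l (Ne.symm hl)) (M l)
  obtain ⟨e'⟩ := Pic13.H138.Glue2.nonempty_restrict_push (c k) (M k)
  exact ⟨((Scheme.Modules.restrictFunctorIsoPullback (c k)).app _).symm ≪≫
    (Scheme.Modules.restrictFunctor (c k)).mapBiproduct F ≪≫ e ≪≫ e'⟩

end Groth.Agent.VecBal.K678.Eff
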